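import Cfsg.Agent.H282.P1.Opp

/-!
# S3046, Case A: `C` is generated by `S` and the `c ∈ C` with `[V, V^c] ≠ 1`

`AStr.gen`, `AStr.R_norm`, `AStr.norm_R`.
-/

set_option autoImplicit false
set_option linter.unusedSectionVars false

open Cfsg Subgroup
open scoped commutatorElement
open Cfsg.Agent.H230 Cfsg.Agent.H229 Cfsg.Agent.H247.P1

namespace Cfsg.Agent.H250.P1

variable {H : Type*} [Group H]

theorem comm_mul_of_commute {u u' v v' : H} (h1 : Commute u v) (h2 : Commute u v') (h3 : Commute u' v)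
    (h4 : Commute u' v') : ⁅u * v, u' * v'⁆ = ⁅u, u'⁆ * ⁅v, v'⁆ := by
  have h5 : Commute (u⁻¹ * u'⁻¹) ⁅v, v'⁆ := by
    rw [commutatorElement_def]
    refine Commute.mul_left ?_ ?_
    · exact ((h1.inv_left.mul_right h2.inv_left).mul_right h1.inv_inv).mul_right h2.inv_inv
    · exact ((h3.inv_left.mul_right h4.inv_left).mul_right h3.inv_inv).mul_right h4.inv_inv
  have h6 : v * u' = u' * v := h3.eq.symm
  have h7 : u⁻¹ * v'⁻¹ = v'⁻¹ * u⁻¹ := h2.inv_inv.eq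
  calc ⁅u * v, u' * v'⁆ = u * (v * u') * v' * v⁻¹ * (u⁻¹ * v'⁻¹) * u'⁻¹ := by
        rw [commutatorElement_def]; group
    _ = u * u' * ⁅v, v'⁆ * (u⁻¹ * u'⁻¹) := by rw [h6, h7, commutatorElement_def]; group
    _ = u * u' * ((u⁻¹ * u'⁻¹) * ⁅v, v'⁆) := by rw [mul_assoc, h5.eq]
    _ = ⁅u, u'⁆ * ⁅v, v'⁆ := by rw [commutatorElement_def u u']; group

theorem card_of_fibers [Finite H] {F₀ A Z₁ Z₂ : Subgroup H} (a : H → H) (hZ₁ : Z₁ ≤ F₀) (hZ₂ : Z₂ ≤ A)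
    (hc : ∀ z ∈ Z₂, ∀ x ∈ A, z * x = x * z) (ha : ∀ x ∈ A, a x ∈ F₀)
    (hfib : ∀ x ∈ A, ∀ x' ∈ A, (a x)⁻¹ * a x' ∈ Z₁ → x' * x⁻¹ ∈ Z₂) :
    Nat.card ↥A * Nat.card ↥Z₁ ≤ Nat.card ↥F₀ * Nat.card ↥Z₂ := by
  classical
  let φ : (↥A ⧸ Z₂.subgroupOf A) → (↥F₀ ⧸ Z₁.subgroupOf F₀) := fun q =>
    QuotientGroup.mk ⟨a (q.out : ↥A), ha _ (q.out).2⟩
  have hφ : Function.Injective φ := by
    intro q q' hq
    rw [QuotientGroup.eq, mem_subgroupOf] at hq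
    have h1 := hfib _ (q.out).2 _ (q'.out).2 hq
    rw [← QuotientGroup.out_eq' q, ← QuotientGroup.out_eq' q', QuotientGroup.eq, mem_subgroupOf]
    have h2 := hc _ h1 _ (q.out).2
    have h3 : ((q.out)⁻¹ * q'.out : ↥A) = ((q'.out : ↥A) : H) * ((q.out : ↥A) : H)⁻¹ := by
      have e1 : ((q'.out : ↥A) : H) = ((q.out : ↥A) : H) * (((q'.out : ↥A) : H) * ((q.out : ↥A) : H)⁻¹) := by
        rw [← h2]; group
      have e2 : (((q.out)⁻¹ * q'.out : ↥A) : H) = ((q.out : ↥A) : H)⁻¹ * ((q'.out : ↥A) : H) := rfl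
      rw [e2]
      nth_rw 1 [e1]
      group
    rw [h3]; exact h1
  have h1 := Nat.card_le_card_of_injective φ hφ
  have h2 := Subgroup.card_eq_card_quotient_mul_card_subgroup (Z₂.subgroupOf A)
  have h3 := Subgroup.card_eq_card_quotient_mul_card_subgroup (Z₁.subgroupOf F₀)
  have h4 : Nat.card ↥(Z₂.subgroupOf A) = Nat.card ↥Z₂ := Nat.card_congr (subgroupOfEquivOfLe hZ₂).toEquiv
  have h5 : Nat.card ↥(Z₁.subgroupOf F₀) = Nat.card ↥Z₁ := Nat.card_congr (subgroupOfEquivOfLe hZ₁).toEquiv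
  rw [h4] at h2
  rw [h5] at h3
  rw [h2, h3]
  calc _ = Nat.card (↥A ⧸ Z₂.subgroupOf A) * (Nat.card ↥Z₂ * Nat.card ↥Z₁) := by ring
    _ ≤ Nat.card (↥F₀ ⧸ Z₁.subgroupOf F₀) * (Nat.card ↥Z₂ * Nat.card ↥Z₁) := Nat.mul_le_mul_right _ h1
    _ = _ := by ring

namespace AStr

variable {p : ℕ} {S : Sylow p H} {Z C Q P V D J R : Subgroup H} {r : ℕ} {E W : Fin r → Subgroup H}
  {F : Type} [Field F] [Fintype F] [Finite H] [Fact p.Prime]

theorem D_le_S (h : AStr p S Z C Q P V D J R E W F) : D ≤ (S : Subgroup H) := by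
  rw [h.D_eq]; exact h.hyp.D_le_S

theorem inf_cent_V (h : AStr p S Z C Q P V D J R E W F) : (S : Subgroup H) ⊓ centralizer (V : Set H) = D := by
  rw [h.D_eq, h.V_eq]; exact h.hyp.inf_cent_Y

theorem V_eq_zOmega (h : AStr p S Z C Q P V D J R E W F) : V = zOmega p D := by
  rw [h.D_eq, h.V_eq]; exact h.hyp.Y_eq

theorem cj_V_le_Q (h : AStr p S Z C Q P V D J R E W F) {c : H} (hc : c ∈ C) : cj c V ≤ Q := by
  rw [← h.hyp.cj_Q_of_mem hc]; exact cj_mono h.VQ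

/-- **generation of `C`**. -/
theorem gen (h : AStr p S Z C Q P V D J R E W F) {N : Subgroup H} (hNC : N ≤ C) (hS : (S : Subgroup H) ≤ N)
    (hadj : ∀ c ∈ C, ⁅V, cj c V⁆ ≠ ⊥ → c ∈ N) : N = C := by
  classical
  by_contra hne
  obtain ⟨c₁, hc₁, hc₁N⟩ := Set.exists_of_ssubset (SetLike.coe_ssubset_coe.2 (lt_of_le_of_ne hNC hne))
  rw [SetLike.mem_coe] at hc₁ hc₁N
  obtain ⟨c, hcC, hcV⟩ := h.ex
  have hcN := hadj c hcC hcV
  obtain ⟨g, hgP, -, hopp⟩ := h.opp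
  obtain ⟨f, hf, hfg⟩ := hopp c hcC hcV
  -- the two normal closures
  set F₁ : Subgroup H := ncl N V with hF₁
  set Fs : Subgroup H := ⨆ d : {d : H // d ∈ C ∧ d ∉ N}, cj (d : H) V with hFs
  have hle : ∀ d ∈ C, d ∉ N → cj d V ≤ Fs := fun d h1 h2 =>
    le_iSup (fun d : {d : H // d ∈ C ∧ d ∉ N} => cj (d : H) V) ⟨d, h1, h2⟩
  have key0 : ∀ c ∈ N, ∀ d ∈ C, d ∉ N → cj c V ≤ centralizer (cj d V : Set H) := by
    intro c hc d hd hdN
    by_contra hcon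
    apply hdN
    have h1 : ⁅cj c V, cj d V⁆ ≠ ⊥ := fun h1 => hcon (commutator_eq_bot_iff_le_centralizer.1 h1)
    have h2 : ⁅V, cj (c⁻¹ * d) V⁆ ≠ ⊥ := by
      intro h2
      apply h1
      have h3 : ⁅cj c V, cj d V⁆ = cj c ⁅V, cj (c⁻¹ * d) V⁆ := by
        rw [cj_comm, ← cj_mul, mul_inv_cancel_left]
      rw [h3, h2, cj_bot]
    have h3 := N.mul_mem hc (hadj _ (C.mul_mem (C.inv_mem (hNC hc)) hd) h2)
    simpa using h3
  have hF₁c : F₁ ≤ centralizer (Fs : Set H) := by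
    apply le_centralizer_comm
    refine iSup_le fun d => ?_
    apply le_centralizer_comm
    rw [hF₁, ncl_le_iff]
    exact fun c hc => key0 c hc d d.2.1 d.2.2
  have hNF₁ : N ≤ normalizer (F₁ : Set H) := le_norm_ncl N V
  have hNFs : N ≤ normalizer (Fs : Set H) := by
    have h1 : ∀ n ∈ N, cj n Fs ≤ Fs := by
      intro n hn
      rw [cj_le_iff]
      refine iSup_le fun d => ?_
      rw [← cj_le_iff, ← cj_mul]
      refine hle _ (C.mul_mem (hNC hn) d.2.1) fun h1 => d.2.2 ?_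
      simpa using N.mul_mem (N.inv_mem hn) h1
    intro n hn
    rw [mem_norm]
    apply le_antisymm (h1 n hn)
    rw [le_cj_iff]
    exact h1 _ (N.inv_mem hn)
  have hVF₁ : V ≤ F₁ := le_ncl N V
  have hF₁Q : F₁ ≤ Q := by
    rw [hF₁, ncl_le_iff]
    exact fun n hn => h.cj_V_le_Q (hNC hn)
  have hF₁S : F₁ ≤ (S : Subgroup H) := hF₁Q.trans h.hyp.Q_le_S
  have hF₁P : F₁ ≤ P := hF₁S.trans h.hyp.hSP
  have hDN : D ≤ N := h.D_le_S.trans hS
  have hFsD : Fs ≤ D := by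
    rw [← h.inf_cent_V]
    refine le_inf ?_ ?_
    · exact iSup_le fun d => (h.cj_V_le_Q d.2.1).trans h.hyp.Q_le_S
    · exact le_centralizer_comm (hVF₁.trans hF₁c)
  have hcF₁ : cj c V ≤ F₁ := cj_le_ncl hcN
  have hfF₁ : f ∈ F₁ := hcF₁ hf
  have hfP : f ∈ P := hF₁P hfF₁
  have hfgP : f * g ∈ P := P.mul_mem hfP hgP
  -- `C_V(F₁) ≤ R`
  have hCV : V ⊓ centralizer (F₁ : Set H) ≤ R := by
    intro x hx
    rw [h.R_eq]
    refine ⟨hx.1, ?_⟩
    rw [← (h.adj c hcC hcV).1]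
    have h1 : cj c V ⊔ D ≤ centralizer (({x} : Set H)) := by
      refine sup_le ?_ ?_
      · intro y hy
        rw [mem_centralizer_singleton_iff]
        exact (mem_centralizer_iff.1 hx.2) y (hcF₁ hy)
      · intro y hy
        rw [mem_centralizer_singleton_iff]
        exact ((mem_centralizer_iff.1 (h.D_cent hy)) x hx.1).symm
    refine mem_centralizer_iff.2 fun y hy => ?_
    exact mem_centralizer_singleton_iff.1 (h1 hy)
  have hDg : ∀ x ∈ P, cj x D = D := fun x hx => mem_norm.1 (h.P_norm_D hx)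
  have hDFs : ∀ x ∈ P, D ≤ normalizer (cj x Fs : Set H) := by
    intro x hx
    rw [← cj_normalizer, ← hDg x hx]
    exact cj_mono (hDN.trans hNFs)
  have hFsDx : ∀ x ∈ P, cj x Fs ≤ D := fun x hx => (cj_mono hFsD).trans (hDg x hx).le
  have hDp : IsPGroup p ↥D := isPGroup_mono h.D_le_S S.2
  -- `I = 1`
  have hI : cj g Fs ⊓ cj (f * g) Fs = ⊥ := by
    by_contra hI
    have h1 : cj g Fs ⊓ cj (f * g) Fs ≤ D := inf_le_left.trans (hFsDx g hgP)
    have h2 := PLocal.OffenderStep.inf_centralizer_ne_bot _ D (isPGroup_mono h1 hDp) hDp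
      (le_trans (le_inf (hDFs g hgP) (hDFs _ hfgP)) (norm_inf_le _ _)) hI
    have h3 : IsPGroup p ↥(cj g Fs ⊓ cj (f * g) Fs ⊓ centralizer (D : Set H) : Subgroup H) :=
      isPGroup_mono (inf_le_left.trans h1) hDp
    obtain ⟨x, hx, hx1, hxp⟩ : ∃ x ∈ cj g Fs ⊓ cj (f * g) Fs ⊓ centralizer (D : Set H), x ≠ 1 ∧ x ^ p = 1 := by
      have hnt : Nontrivial ↥(cj g Fs ⊓ cj (f * g) Fs ⊓ centralizer (D : Set H) : Subgroup H) :=
        (nontrivial_iff_ne_bot _).2 h2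
      obtain ⟨n, hn, hcard⟩ := h3.nontrivial_iff_card.1 hnt
      have hdvd : p ∣ Nat.card ↥(cj g Fs ⊓ cj (f * g) Fs ⊓ centralizer (D : Set H) : Subgroup H) := by
        rw [hcard]; exact dvd_pow_self p hn.ne'
      obtain ⟨y, hy⟩ := exists_prime_orderOf_dvd_card' p hdvd
      refine ⟨y, y.2, ?_, ?_⟩
      · intro h4
        have h5 : y = 1 := Subtype.ext h4
        rw [h5, orderOf_one] at hy
        exact (Fact.out : p.Prime).one_lt.ne hy
      · have h5 : y ^ p = 1 := by rw [← hy]; exact pow_orderOf_eq_one y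
        exact congrArg Subtype.val h5
    have hxV : x ∈ V := by
      rw [h.V_eq_zOmega]
      exact ⟨h1 hx.1, hx.2, hxp⟩
    have key : ∀ u ∈ P, x ∈ cj u Fs → x ∈ cj u R := by
      intro u hu hxu
      have h4 : x ∈ cj u (V ⊓ centralizer (F₁ : Set H)) := by
        rw [cj_inf]
        refine ⟨?_, cj_mono (le_centralizer_comm hF₁c) hxu⟩
        rw [mem_norm.1 (h.P_norm_V hu)]; exact hxV
      exact cj_mono hCV h4
    apply hx1
    have h4 : x ∈ cj g R ⊓ cj (f * g) R := ⟨key g hgP hx.1.1, key _ hfgP hx.1.2⟩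
    rw [hfg] at h4
    exact h4
  have hcomm : ∀ u ∈ cj g Fs, ∀ v ∈ cj (f * g) Fs, Commute u v := by
    intro u hu v hv
    have h1 : ⁅u, v⁆ ∈ cj g Fs ⊓ cj (f * g) Fs := by
      refine mem_inf.2 ⟨?_, ?_⟩
      · have h2 : v * u⁻¹ * v⁻¹ ∈ cj g Fs :=
          (le_norm_iff.1 (hDFs g hgP)) v (hFsDx _ hfgP hv) _ (inv_mem hu)
        have h3 := mul_mem hu h2
        rw [commutatorElement_def]
        have e : u * v * u⁻¹ * v⁻¹ = u * (v * u⁻¹ * v⁻¹) := by group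
        rw [e]; exact h3
      · have h2 : u * v * u⁻¹ ∈ cj (f * g) Fs :=
          (le_norm_iff.1 (hDFs _ hfgP)) u (hFsDx g hgP hu) _ hv
        rw [commutatorElement_def]
        exact mul_mem h2 (inv_mem hv)
    rw [hI] at h1
    exact commutatorElement_eq_one_iff_commute.1 h1
  -- the subgroup `A = F₂^g`
  set A : Subgroup H := cj (g * c₁) F₁ with hA
  have hAFs : A ≤ cj g Fs := by
    rw [hA, cj_mul]
    apply cj_mono
    rw [cj_le_iff, hF₁, ncl_le_iff]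
    intro n hn
    rw [← cj_le_iff, ← cj_mul]
    refine hle _ (C.mul_mem hc₁ (hNC hn)) fun h1 => hc₁N ?_
    simpa using N.mul_mem h1 (N.inv_mem hn)
  have hAf : ∀ x ∈ A, f * x * f⁻¹ ∈ cj (f * g) Fs := by
    intro x hx
    rw [cj_mul]
    exact conj_mem_cj (hAFs hx)
  have hAD : A ≤ D := hAFs.trans (hFsDx g hgP)
  set a : H → H := fun x => x⁻¹ * (f * x * f⁻¹) with ha
  have haF : ∀ x ∈ A, a x ∈ F₁ ⊓ D := by
    intro x hx
    refine mem_inf.2 ⟨?_, ?_⟩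
    · have h1 : x⁻¹ * f * x ∈ F₁ := by
        have := (le_norm_iff.1 hNF₁) x⁻¹ (N.inv_mem (hDN (hAD hx))) f hfF₁
        rwa [inv_inv] at this
      have e : a x = (x⁻¹ * f * x) * f⁻¹ := by simp only [ha]; group
      rw [e]
      exact mul_mem h1 (inv_mem hfF₁)
    · exact mul_mem (inv_mem (hAD hx)) ((le_norm_iff.1 h.P_norm_D) f hfP x (hAD hx))
  have hZF : F₁ ⊓ centralizer (F₁ : Set H) ≤ F₁ ⊓ D := by
    refine le_inf inf_le_left ?_
    rw [← h.inf_cent_V]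
    exact le_inf (inf_le_left.trans hF₁S) (inf_le_right.trans (Subgroup.centralizer_le hVF₁))
  have hcard := card_of_fibers (F₀ := F₁ ⊓ D) (A := A) (Z₁ := F₁ ⊓ centralizer (F₁ : Set H))
    (Z₂ := A ⊓ centralizer (A : Set H)) a hZF inf_le_left
    (fun z hz x hx => ((mem_centralizer_iff.1 hz.2) x hx).symm) haF ?_
  · have h1 : Nat.card ↥A = Nat.card ↥F₁ :=
      (Nat.card_congr (F₁.equivMapOfInjective _ (MulAut.conj (g * c₁)).injective).toEquiv).symm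
    have h2 : A ⊓ centralizer (A : Set H) = cj (g * c₁) (F₁ ⊓ centralizer (F₁ : Set H)) := by
      rw [cj_inf, cj_centralizer]
    have h3 : Nat.card ↥(A ⊓ centralizer (A : Set H) : Subgroup H) =
        Nat.card ↥(F₁ ⊓ centralizer (F₁ : Set H) : Subgroup H) := by
      rw [h2]
      exact (Nat.card_congr ((F₁ ⊓ centralizer (F₁ : Set H) : Subgroup H).equivMapOfInjective _
        (MulAut.conj (g * c₁)).injective).toEquiv).symm
    rw [h1, h3] at hcard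
    have h4 : Nat.card ↥F₁ ≤ Nat.card ↥(F₁ ⊓ D : Subgroup H) := Nat.le_of_mul_le_mul_right hcard Nat.card_pos
    have h5 : F₁ ⊓ D = F₁ := Subgroup.eq_of_le_of_card_ge inf_le_left h4
    apply hcV
    rw [commutator_comm]
    apply commutator_eq_bot_iff_le_centralizer.2
    exact (hcF₁.trans (inf_eq_left.1 h5)).trans h.D_cent
  · intro x hx x' hx' hζ
    refine mem_inf.2 ⟨mul_mem hx' (inv_mem hx), ?_⟩
    rw [mem_centralizer_iff]
    intro Y hY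
    have hy : Y⁻¹ ∈ A := inv_mem hY
    have hmulc : ∀ u ∈ A, ⁅a u, a Y⁻¹⁆ = ⁅u⁻¹, Y⁆ * ⁅f * u * f⁻¹, f * Y⁻¹ * f⁻¹⁆ := by
      intro u hu
      have h1 := comm_mul_of_commute (u := u⁻¹) (u' := Y) (v := f * u * f⁻¹) (v' := f * Y⁻¹ * f⁻¹)
        (hcomm _ (hAFs (inv_mem hu)) _ (hAf u hu)) (hcomm _ (hAFs (inv_mem hu)) _ (hAf _ hy))
        (hcomm _ (hAFs hY) _ (hAf u hu)) (hcomm _ (hAFs hY) _ (hAf _ hy))
      rw [← h1]
      simp only [ha, inv_inv]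
    have h2 : ⁅a x', a Y⁻¹⁆ = ⁅a x, a Y⁻¹⁆ := by
      set ζ := (a x)⁻¹ * a x' with hζd
      have e1 : a x' = a x * ζ := by rw [hζd]; group
      have c1 : ζ * a Y⁻¹ = a Y⁻¹ * ζ := ((mem_centralizer_iff.1 hζ.2) _ (haF _ hy).1).symm
      have c2 : ζ * a x = a x * ζ := ((mem_centralizer_iff.1 hζ.2) _ (haF _ hx).1).symm
      rw [e1, commutatorElement_def, commutatorElement_def]
      calc a x * ζ * a Y⁻¹ * (a x * ζ)⁻¹ * (a Y⁻¹)⁻¹ = a x * (ζ * a Y⁻¹) * ζ⁻¹ * (a x)⁻¹ * (a Y⁻¹)⁻¹ := by group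
        _ = a x * a Y⁻¹ * (a x)⁻¹ * (a Y⁻¹)⁻¹ := by rw [c1]; group
    rw [hmulc x' hx', hmulc x hx] at h2
    have h3 : ⁅x⁻¹, Y⁆⁻¹ * ⁅x'⁻¹, Y⁆ = ⁅f * x * f⁻¹, f * Y⁻¹ * f⁻¹⁆ * ⁅f * x' * f⁻¹, f * Y⁻¹ * f⁻¹⁆⁻¹ := by
      rw [eq_mul_inv_iff_mul_eq, mul_assoc, h2]; group
    have hm : ∀ (K : Subgroup H) (u v : H), u ∈ K → v ∈ K → ⁅u, v⁆ ∈ K := by
      intro K u v hu hv
      rw [commutatorElement_def]
      exact mul_mem (mul_mem (mul_mem hu hv) (inv_mem hu)) (inv_mem hv)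
    have h4 : ⁅x⁻¹, Y⁆⁻¹ * ⁅x'⁻¹, Y⁆ ∈ cj g Fs ⊓ cj (f * g) Fs := by
      refine mem_inf.2 ⟨?_, ?_⟩
      · exact mul_mem (inv_mem (hm _ _ _ (hAFs (inv_mem hx)) (hAFs hY))) (hm _ _ _ (hAFs (inv_mem hx')) (hAFs hY))
      · rw [h3]
        exact mul_mem (hm _ _ _ (hAf x hx) (hAf _ hy)) (inv_mem (hm _ _ _ (hAf x' hx') (hAf _ hy)))
    rw [hI, mem_bot] at h4
    have h5 : ⁅x'⁻¹, Y⁆ = ⁅x⁻¹, Y⁆ := by
      rw [inv_mul_eq_one] at h4; exact h4.symm
    rw [commutatorElement_def, commutatorElement_def, inv_inv, inv_inv] at h5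
    have h6 : x'⁻¹ * Y * x' = x⁻¹ * Y * x := mul_right_cancel h5
    calc Y * (x' * x⁻¹) = x' * (x'⁻¹ * Y * x') * x⁻¹ := by group
      _ = x' * x⁻¹ * Y := by rw [h6]; group

/-- `C` normalises `R`. -/
theorem R_norm (h : AStr p S Z C Q P V D J R E W F) : C ≤ normalizer (R : Set H) := by
  set N : Subgroup H := closure (((S : Subgroup H) : Set H) ∪ {c | c ∈ C ∧ ⁅V, cj c V⁆ ≠ ⊥}) with hN
  have h1 : N = C := by
    apply h.gen
    · rw [hN, closure_le]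
      rintro x (hx | hx)
      · exact h.hyp.S_le hx
      · exact hx.1
    · exact fun x hx => subset_closure (Or.inl hx)
    · exact fun c hc hcV => subset_closure (Or.inr ⟨hc, hcV⟩)
  rw [← h1, hN, closure_le]
  rintro x (hx | hx)
  · have h2 : (S : Subgroup H) ≤ normalizer (((S : Subgroup H) ⊓ J : Subgroup H) : Set H) :=
      le_trans (le_inf le_normalizer (h.hyp.hSP.trans h.J_norm)) (norm_inf_le _ _)
    have h3 : (S : Subgroup H) ≤ normalizer (R : Set H) := by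
      rw [h.R_eq]
      refine le_trans ?_ (norm_inf_le _ _)
      exact le_inf (h.hyp.hSP.trans h.P_norm_V) (h2.trans (norm_le_norm_centralizer _))
    exact h3 hx
  · exact mem_norm.2 (h.adj x hx.1 hx.2).2.2.2

theorem R_ne_bot (h : AStr p S Z C Q P V D J R E W F) : R ≠ ⊥ := by
  obtain ⟨c, hcC, hcV⟩ := h.ex
  rw [← (h.adj c hcC hcV).2.1]
  exact hcV

/-- `N_H(R) = C`. -/
theorem norm_R (h : AStr p S Z C Q P V D J R E W F) : normalizer (R : Set H) = C := by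
  apply h.hyp.hCmax _ ⟨R, ?_, h.R_ne_bot, rfl⟩ h.R_norm
  exact isPGroup_mono (h.R_le_V.trans (h.VQ.trans h.hyp.Q_le_S)) S.2

end AStr

end Cfsg.Agent.H250.P1
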