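import Cfsg.Agent.H44.CU43
import Cfsg.Agent.H271.PU.RowB
import Cfsg.Agent.SevenCases.Rows

/-!
# S3046, case B: the row `U₄(3)`, `p = 2` (helper282)

`ea_small` : the elementary abelian normal subgroups of the centraliser of an involution `z` of `U₄(3)` lie in `{1, z}`.
-/

set_option autoImplicit false

universe u

namespace Cfsg.Agent.H282.P1

open Subgroup Cfsg
open Cfsg.Agent.Co2Type.Quad Cfsg.Agent.LargeExtra.W2.CM Cfsg.Agent.LargeExtra.W2.U43
open Cfsg.Agent.LargeExtra.W2.U43.ExistsD Cfsg.Agent.LargeExtra.W2.U43.InvClass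
open Cfsg.Agent.H271.PU

/-- every involution `≠ z` of `C(z)` does not commute with one of its conjugates under elements of order 3 -/
def chkA : T → Bool := fun t =>
  !(T.beq (mu t t) T.one) || (T.beq t T.one || (T.beq t tz ||
    anyL [tx₁, mu tx₁ tx₁, tx₂, mu tx₂ tx₂] (fun c => T.beq (mu c (mu c c)) T.one &&
      !(T.beq (mu (mu (mu c t) (mu c c)) t) (mu t (mu (mu c t) (mu c c)))))))

theorem factA : allT chkA = true := by decide +kernel

variable {G : Type*} [Group G] {Q : Subgroup G} {z i j k l x₁ x₂ y s : G}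

theorem ea_small [Finite G] (h : Tw Q z i j k l x₁ x₂ y s) {A : Subgroup G} (hA : IsElementaryAbelian 2 A)
    (hAc : A ≤ centralizer ({z} : Set G)) (hn : centralizer ({z} : Set G) ≤ normalizer (A : Set G)) :
    ∀ a ∈ A, a = 1 ∨ a = z := by
  intro a ha
  have R := h.rules
  have inj := ev_inj h.toCase9aa R
  set EV : T → G := fun t => t.ev z i j k l x₁ x₂ y s with hEV
  have emul : ∀ t u, EV t * EV u = EV (mu t u) := fun t u => ev_mul R t u
  have e1 : EV T.one = 1 := ev_one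
  have ez : EV tz = z := ev_z
  have hcomm : ∀ c, EV c ∈ centralizer ({z} : Set G) := fun c => mem_centralizer_singleton_iff.2 (ev_comm R c)
  obtain ⟨t, rfl⟩ : ∃ t, a = EV t := exists_ev h.toCase9aa R (mem_centralizer_singleton_iff.1 (hAc ha))
  have h1 : mu t t = T.one := by
    apply inj
    show EV (mu t t) = EV T.one
    rw [← emul, ← pow_two, hA.2 _ ha, e1]
  have h3 := allT_spec factA t
  simp only [chkA, Bool.or_eq_true, Bool.not_eq_true'] at h3
  rcases h3 with h3 | h3 | h3 | h3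
  · rw [← Bool.not_eq_true, T.beq_iff] at h3
    exact absurd h1 h3
  · left; rw [T.eq_of_beq h3, e1]
  · right; rw [T.eq_of_beq h3, ez]
  · exfalso
    obtain ⟨c, -, hc⟩ := anyL_mem h3
    rw [Bool.and_eq_true, Bool.not_eq_true', ← Bool.not_eq_true, T.beq_iff] at hc
    obtain ⟨hc1, hc2⟩ := hc
    apply hc2
    rw [T.beq_iff]
    apply inj
    have hinv : EV (mu c c) = (EV c)⁻¹ := by
      have h4 : EV c * EV (mu c c) = 1 := by rw [emul, hc1, e1]
      exact (inv_eq_of_mul_eq_one_right h4).symm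
    have h5 : EV c * EV t * (EV c)⁻¹ ∈ A := H229.le_norm_iff.1 hn (EV c) (hcomm c) _ ha
    have h6 := H229.ea_comm hA h5 ha
    rw [← hinv] at h6
    simp only [emul] at h6
    exact h6

/-- **the row `U₄(3)`** -/
theorem rowB_u43 {K : Type u} [Group K] [Finite K]
    (h : Cfsg.Agent.SevenCases.PsuOdd (fun n q => n = 4 ∧ q = 3) K) : RowB 2 K := by
  obtain ⟨F, _, _, n, q, -, hF, ⟨rfl, rfl⟩, ⟨e⟩⟩ := h
  have hF9 : Fintype.card F = 9 := by rw [hF]; norm_num
  have hfin : Finite (PSU 4 F 3) := inferInstance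
  have hp2 : Fact (Nat.Prime 2) := ⟨Nat.prime_two⟩
  have hch : CharP F 3 := by
    obtain ⟨p, hp⟩ := CharP.exists F
    obtain ⟨n, hpp, hn⟩ := FiniteField.card F p
    have h3 : p ∣ 9 := by rw [← hF9, hn]; exact dvd_pow_self p n.ne_zero
    have h4 : p = 3 := by
      have h5 : p ∣ 3 ^ 2 := by simpa using h3
      exact (Nat.prime_dvd_prime_iff_eq hpp Nat.prime_three).1 (hpp.dvd_of_dvd_pow h5)
    rwa [h4] at hp
  obtain ⟨Q, z₀, i, j, k, l, x₁, x₂, y, s, hT, hone⟩ : ∃ (Q : Subgroup (PSU 4 F 3)) (z₀ i j k l x₁ x₂ y s : PSU 4 F 3),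
      Tw Q z₀ i j k l x₁ x₂ y s ∧ ∀ t : PSU 4 F 3, t * t = 1 → t ≠ 1 → ∃ g, g * z₀ * g⁻¹ = t := by
    obtain ⟨i, j, k, l, x₁, x₂, y, s, hT, -, -⟩ := Cfsg.Agent.OddHalf.D6.QThree.U43Tw.exists_tw (F := F) hF9
    exact ⟨_, _, i, j, k, l, x₁, x₂, y, s, hT, Cfsg.Agent.OddHalf.D6.QThree.U43Tw.one_class hF9⟩
  refine RowB.congr ?_ e.symm
  rintro z ⟨hz, -⟩
  have hz2 : z * z = 1 := by rw [← pow_two, ← hz, pow_orderOf_eq_one]
  have hz1 : z ≠ 1 := by rintro rfl; rw [orderOf_one] at hz; omega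
  obtain ⟨g, hg⟩ := hone z hz2 hz1
  rw [← hg]
  refine RowAt.map (z := z₀) (p := 2) ?_ (MulAut.conj g)
  intro A hA hzA hAc hn hcard
  exfalso
  have h1 := ea_small hT hA hAc hn
  have h2 : Nat.card ↥A ≤ 2 := by
    classical
    have h3 : (A : Set (PSU 4 F 3)) ⊆ ((({1, z₀} : Finset (PSU 4 F 3)) : Set (PSU 4 F 3))) := by
      intro a ha
      rcases h1 a ha with h4 | h4
      · rw [h4]; simp
      · rw [h4]; simp
    have h4 := Set.ncard_le_ncard h3 (Finset.finite_toSet _)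
    rw [Set.ncard_coe_finset] at h4
    exact (Nat.card_coe_set_eq (A : Set (PSU 4 F 3))).le.trans (h4.trans Finset.card_le_two)
  omega

end Cfsg.Agent.H282.P1
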