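import Cfsg.Agent.H250.P1.Defs

/-!
# S3046, Case A: coordinates on `V = W₁ × ⋯ × W_r` and `AStr.opp`

`AStr.opp`: some `g ∈ P` has `R ∩ R^g = 1`, and every `V^c` not commuting with `V` contains `f` with `R^g ∩ R^{fg} = 1`.
-/

set_option autoImplicit false
set_option linter.unusedSectionVars false

open Cfsg Subgroup
open Cfsg.Agent.H230 Cfsg.Agent.H229 Cfsg.Agent.H247.P1

namespace Cfsg.Agent.H250.P1

variable {H : Type*} [Group H]

/-! ### Products of commuting subgroups -/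

section Coord

variable {r : ℕ} {W : Fin r → Subgroup H}

theorem phi_conj (hc : Pairwise fun i j => ∀ x y : H, x ∈ W i → y ∈ W j → Commute x y) (g : H)
    (w w' : ∀ i, ↥(W i)) (h : ∀ i, (w' i : H) = g * (w i : H) * g⁻¹) :
    noncommPiCoprod hc w' = g * noncommPiCoprod hc w * g⁻¹ := by
  rw [noncommPiCoprod_apply, noncommPiCoprod_apply]
  have h1 := Finset.map_noncommProd (Finset.univ : Finset (Fin r)) (fun i => (w i : H))
    (fun i _ j _ h => hc h _ _ (w i).2 (w j).2) (MulAut.conj g)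
  rw [MulAut.conj_apply] at h1
  rw [h1]
  apply Finset.noncommProd_congr rfl
  intro i _
  rw [h i]; rfl

theorem exists_glue (K : Subgroup H) (e : Fin r → H) (heK : ∀ i, e i ∈ K)
    (hc : ∀ i j, i ≠ j → ∀ w ∈ W j, e i * w * (e i)⁻¹ = w)
    (hn : ∀ i, ∀ w ∈ W i, e i * w * (e i)⁻¹ ∈ W i) :
    ∃ g ∈ K, ∀ i, ∀ w ∈ W i, g * w * g⁻¹ = e i * w * (e i)⁻¹ := by
  classical
  have key : ∀ s : Finset (Fin r), ∃ g ∈ K, (∀ i ∈ s, ∀ w ∈ W i, g * w * g⁻¹ = e i * w * (e i)⁻¹) ∧
      ∀ i, i ∉ s → ∀ w ∈ W i, g * w * g⁻¹ = w := by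
    intro s
    induction s using Finset.induction_on with
    | empty => exact ⟨1, one_mem _, by simp, by simp⟩
    | insert k s hk ih =>
      obtain ⟨g, hg, h1, h2⟩ := ih
      refine ⟨e k * g, mul_mem (heK k) hg, ?_, ?_⟩
      · intro i hi w hw
        have e1 : e k * g * w * (e k * g)⁻¹ = e k * (g * w * g⁻¹) * (e k)⁻¹ := by group
        rw [e1]
        rcases Finset.mem_insert.1 hi with rfl | hi
        · rw [h2 _ hk w hw]
        · have hki : k ≠ i := by rintro rfl; exact hk hi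
          rw [h1 i hi w hw]
          exact hc k i hki _ (hn i w hw)
      · intro i hi w hw
        rw [Finset.mem_insert, not_or] at hi
        have e1 : e k * g * w * (e k * g)⁻¹ = e k * (g * w * g⁻¹) * (e k)⁻¹ := by group
        rw [e1, h2 i hi.2 w hw]
        exact hc k i (fun h => hi.1 h.symm) w hw
  obtain ⟨g, hg, h1, -⟩ := key Finset.univ
  exact ⟨g, hg, fun i => h1 i (Finset.mem_univ i)⟩

end Coord

namespace AStr

variable {p : ℕ} {S : Sylow p H} {Z C Q P V D J R : Subgroup H} {r : ℕ} {E W : Fin r → Subgroup H}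
  {F : Type} [Field F] [Fintype F]

theorem V_ea (h : AStr p S Z C Q P V D J R E W F) : IsElementaryAbelian p V := by
  rw [h.V_eq]; exact largest_ea p P

theorem V_comm (h : AStr p S Z C Q P V D J R E W F) : V ≤ centralizer (V : Set H) :=
  ea_le_centralizer h.V_ea

theorem P_norm_V (h : AStr p S Z C Q P V D J R E W F) : P ≤ normalizer (V : Set H) := by
  rw [h.V_eq]; exact largest_normal p P

theorem P_norm_D (h : AStr p S Z C Q P V D J R E W F) : P ≤ normalizer (D : Set H) := by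
  rw [h.D_eq]; exact le_norm_pCoreOf p P

theorem D_cent (h : AStr p S Z C Q P V D J R E W F) : D ≤ centralizer (V : Set H) := by
  rw [h.V_eq, h.D_eq]; exact pCoreOf_le_centralizer_largest p P

theorem D_le_P (h : AStr p S Z C Q P V D J R E W F) : D ≤ P := by
  rw [h.D_eq]; exact H229.pCoreOf_le p P

theorem D_le_E (h : AStr p S Z C Q P V D J R E W F) (i : Fin r) : D ≤ E i :=
  (le_inf h.D_le_P h.D_cent).trans (h.le_E i)

theorem E_le_J (h : AStr p S Z C Q P V D J R E W F) (i : Fin r) : E i ≤ J := by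
  rw [h.J_eq]; exact le_iSup E i

theorem D_le_J (h : AStr p S Z C Q P V D J R E W F) : D ≤ J :=
  (h.D_le_E ⟨0, h.pos⟩).trans (h.E_le_J _)

theorem J_le_P (h : AStr p S Z C Q P V D J R E W F) : J ≤ P := by
  rw [h.J_eq]; exact iSup_le h.E_le

theorem R_le_V (h : AStr p S Z C Q P V D J R E W F) : R ≤ V := by
  rw [h.R_eq]; exact inf_le_left

theorem indep (h : AStr p S Z C Q P V D J R E W F) : iSupIndep W := by
  intro i
  rw [disjoint_iff]
  exact h.W_ind i

theorem W_comm (h : AStr p S Z C Q P V D J R E W F) :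
    Pairwise fun i j => ∀ x y : H, x ∈ W i → y ∈ W j → Commute x y := by
  intro i j _ x y hx hy
  exact ((mem_centralizer_iff.1 (h.V_comm (h.W_le i hx))) y (h.W_le j hy)).symm

theorem W_conj (h : AStr p S Z C Q P V D J R E W F) {i : Fin r} {e w : H} (he : e ∈ E i) (hw : w ∈ W i) :
    e * w * e⁻¹ ∈ W i := by
  obtain ⟨ρ, ψ, -, h1, -, -⟩ := h.nat i
  obtain ⟨w', hw', -⟩ := h1 ⟨e, he⟩ ⟨w, hw⟩
  rw [← hw']
  exact w'.2

theorem conj_fix (h : AStr p S Z C Q P V D J R E W F) {i j : Fin r} (hij : i ≠ j) {e w : H} (he : e ∈ E i)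
    (hw : w ∈ W j) : e * w * e⁻¹ = w := by
  have := (mem_centralizer_iff.1 (h.fix j i hij.symm hw)) e he
  rw [this]; group

variable [Finite H] [Fact p.Prime]

/-- **opposite points**. -/
theorem opp (h : AStr p S Z C Q P V D J R E W F) :
    ∃ g ∈ P, R ⊓ cj g R = ⊥ ∧ ∀ c ∈ C, ⁅V, cj c V⁆ ≠ ⊥ → ∃ f ∈ cj c V, cj g R ⊓ cj (f * g) R = ⊥ := by
  classical
  choose ρ ψ hsurj hact hup hall using h.nat
  have hc := h.W_comm
  have hinj : Function.Injective (noncommPiCoprod hc) := injective_noncommPiCoprod_of_iSupIndep h.indep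
  have hran : ∀ x ∈ V, ∃ w : ∀ i, ↥(W i), noncommPiCoprod hc w = x := by
    intro x hx
    have : x ∈ (noncommPiCoprod hc).range := by rw [noncommPiCoprod_range, h.W_sup]; exact hx
    exact this
  -- the upper unitriangular elements and the elements `[0,-1;1,0]`
  choose s hsS hs using fun i => hall i 1
  choose e he using fun i => hsurj i ⟨!![0, -1; 1, 0], by simp [Matrix.det_fin_two]⟩
  have hone : ∀ (i : Fin r) (w : ↥(W i)), ψ i (Additive.ofMul w) = 0 → w = 1 := by
    intro i w hw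
    have : Additive.ofMul w = 0 := (ψ i).injective (by rw [hw, map_zero])
    exact this
  have hsact : ∀ (i : Fin r) (w w' : ↥(W i)), (w' : H) = (s i : H) * (w : H) * (s i : H)⁻¹ →
      ψ i (Additive.ofMul w') = ![ψ i (Additive.ofMul w) 0 + ψ i (Additive.ofMul w) 1, ψ i (Additive.ofMul w) 1] := by
    intro i w w' hw
    obtain ⟨w'', h1, h2⟩ := hact i (s i) w
    have : w' = w'' := Subtype.ext (by rw [hw, h1])
    rw [this, h2, hs i]
    ext k; fin_cases k <;> simp [Matrix.mulVec, dotProduct, Fin.sum_univ_two]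
  have heact : ∀ (i : Fin r) (w w' : ↥(W i)), (w' : H) = (e i : H) * (w : H) * (e i : H)⁻¹ →
      ψ i (Additive.ofMul w') = ![-ψ i (Additive.ofMul w) 1, ψ i (Additive.ofMul w) 0] := by
    intro i w w' hw
    obtain ⟨w'', h1, h2⟩ := hact i (e i) w
    have : w' = w'' := Subtype.ext (by rw [hw, h1])
    rw [this, h2, he i]
    ext k; fin_cases k <;> simp [Matrix.mulVec, dotProduct, Fin.sum_univ_two]
  -- the coordinates of the elements of `R`
  have hR : ∀ w : ∀ i, ↥(W i), noncommPiCoprod hc w ∈ R → ∀ i, ψ i (Additive.ofMul (w i)) 1 = 0 := by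
    intro w hw i
    obtain ⟨w', hw'⟩ : ∃ w' : ∀ j, ↥(W j), ∀ j, (w' j : H) = (s i : H) * (w j : H) * (s i : H)⁻¹ := by
      have : ∀ j, ∃ w' : ↥(W j), (w' : H) = (s i : H) * (w j : H) * (s i : H)⁻¹ := by
        intro j
        by_cases hij : i = j
        · subst hij
          exact ⟨⟨_, h.W_conj (s i).2 (w i).2⟩, rfl⟩
        · exact ⟨w j, (h.conj_fix hij (s i).2 (w j).2).symm⟩
      exact ⟨fun j => (this j).choose, fun j => (this j).choose_spec⟩
    have h1 := phi_conj hc (s i : H) w w' hw'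
    have h2 : (s i : H) * noncommPiCoprod hc w * (s i : H)⁻¹ = noncommPiCoprod hc w := by
      rw [h.R_eq] at hw
      have := (mem_centralizer_iff.1 hw.2) (s i : H) ⟨hsS i, h.E_le_J i (s i).2⟩
      rw [this]; group
    rw [h2] at h1
    have h3 := congrFun (hinj h1) i
    have h4 := hsact i (w i) (w' i) (hw' i)
    rw [h3] at h4
    have h5 := congrFun h4 0
    simpa using h5
  -- `g` and `s`
  have hnE : ∀ (i : Fin r) (x : ↥(E i)), ∀ w ∈ W i, (x : H) * w * (x : H)⁻¹ ∈ W i :=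
    fun i x w hw => h.W_conj x.2 hw
  obtain ⟨g, hgP, hg⟩ := exists_glue (W := W) P (fun i => (e i : H)) (fun i => h.E_le i (e i).2)
    (fun i j hij w hw => h.conj_fix hij (e i).2 hw) (fun i w hw => hnE i (e i) w hw)
  obtain ⟨t, htS, ht⟩ := exists_glue (W := W) ((S : Subgroup H) ⊓ J) (fun i => (s i : H))
    (fun i => ⟨hsS i, h.E_le_J i (s i).2⟩)
    (fun i j hij w hw => h.conj_fix hij (s i).2 hw) (fun i w hw => hnE i (s i) w hw)
  -- the coordinates of the elements of `R^g`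
  have hRg : ∀ x ∈ cj g R, ∃ w : ∀ i, ↥(W i), noncommPiCoprod hc w = x ∧
      ∀ i, ψ i (Additive.ofMul (w i)) 0 = 0 := by
    intro x hx
    rw [mem_cj] at hx
    obtain ⟨w, hw⟩ := hran _ (h.R_le_V hx)
    have h1 := hR w (by rw [hw]; exact hx)
    refine ⟨fun i => ⟨(e i : H) * (w i : H) * (e i : H)⁻¹, hnE i (e i) _ (w i).2⟩, ?_, ?_⟩
    · rw [phi_conj hc g w _ (fun i => (hg i _ (w i).2).symm), hw]; group
    · intro i
      rw [heact i (w i) _ rfl]
      simp [h1 i]
  refine ⟨g, hgP, ?_, ?_⟩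
  · rw [Subgroup.eq_bot_iff_forall]
    rintro x ⟨hx1, hx2⟩
    obtain ⟨w, hw, hw1⟩ := hRg x hx2
    have h2 := hR w (by rw [hw]; exact hx1)
    have h3 : w = 1 := by
      funext i
      apply hone
      ext k; fin_cases k
      · exact hw1 i
      · exact h2 i
    rw [← hw, h3, map_one]
  · intro c hcC hcV
    obtain ⟨hadj, -⟩ := h.adj c hcC hcV
    rw [← hadj] at htS
    have hcQ : cj c V ≤ Q := by
      rw [← h.hyp.cj_Q_of_mem hcC]; exact cj_mono h.VQ
    have hcP : cj c V ≤ P := hcQ.trans h.hyp.Q_le_P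
    rw [sup_comm, mem_sup_of_norm (hcP.trans h.P_norm_D)] at htS
    obtain ⟨d, hd, f, hf, hdf⟩ := htS
    refine ⟨f, hf, ?_⟩
    rw [Subgroup.eq_bot_iff_forall]
    rintro x ⟨hx1, hx2⟩
    obtain ⟨w, hw, hw1⟩ := hRg x hx1
    have hx3 : f⁻¹ * x * f ∈ cj g R := by
      rw [cj_mul] at hx2; exact mem_cj.1 hx2
    obtain ⟨w', hw', hw1'⟩ := hRg _ hx3
    -- `x = t (f⁻¹ x f) t⁻¹`
    have hxV : x ∈ V := by
      have := cj_mono (g := g) h.R_le_V hx1
      rwa [mem_norm.1 (h.P_norm_V hgP)] at this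
    have h4 : t * (f⁻¹ * x * f) * t⁻¹ = x := by
      have h5 : d * x = x * d := ((mem_centralizer_iff.1 (h.D_cent hd)) x hxV).symm
      calc t * (f⁻¹ * x * f) * t⁻¹ = d * x * d⁻¹ := by rw [← hdf]; group
        _ = x := by rw [h5]; group
    have h5 := phi_conj hc t w' (fun i => ⟨(s i : H) * (w' i : H) * (s i : H)⁻¹, hnE i (s i) _ (w' i).2⟩)
      (fun i => (ht i _ (w' i).2).symm)
    rw [hw', h4, ← hw] at h5
    have h6 := hinj h5
    have h7 : w = 1 := by
      funext i
      have h8 := hsact i (w' i) _ (rfl : ((⟨(s i : H) * (w' i : H) * (s i : H)⁻¹, hnE i (s i) _ (w' i).2⟩ : ↥(W i)) : H) = _)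
      have h9 := congrFun h6 i
      rw [h9] at h8
      have h10 := congrFun h8 0
      have h11 := congrFun h8 1
      simp only [Matrix.cons_val_zero, Matrix.cons_val_one, hw1' i, hw1 i, zero_add] at h10 h11
      apply hone
      ext k; fin_cases k
      · exact hw1 i
      · exact h11.trans h10.symm
    rw [← hw, h7, map_one]

end AStr

end Cfsg.Agent.H250.P1
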